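import Groth.Agent.PseudoAb27.Tors
import Groth.Agent.SGA3cLib.GrpBC
import Groth.Agent.AbCubeLib.ChowKernel
import Groth.Agent.DimLib.BaseChange
import Groth.Agent.S12397
import Groth.Agent.SGA3xLib.SepFibre
import Groth.Agent.AlgGrpLib.AbelianSubvariety
import Groth.Agent.NeronLib.ProductDecomp

/-!
Tate modules of pseudo-abelian varieties.
-/

set_option autoImplicit false
set_option backward.isDefEq.respectTransparency.types false
set_option linter.style.haveILetI false

universe u

open CategoryTheory CategoryTheory.Limits MonoidalCategory CartesianMonoidalCategory MonObj AlgebraicGeometry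

noncomputable section

namespace Groth.Agent.PseudoAb27

variable {k : Type u} [Field k]

theorem isMonHom_pullbackId {S : Scheme.{u}} {σ : S ⟶ S} (hσ : σ = 𝟙 S) (P : Over S) [GrpObj P] :
    ∃ e : Red.bc σ P ≅ P, IsMonHom e.hom := by
  subst hσ
  refine ⟨(Over.pullbackId (X := S)).app P, ?_⟩
  let α : Over.pullback (𝟙 S) ⋙ 𝟭 (Over S) ≅ 𝟭 (Over S) := Functor.rightUnitor _ ≪≫ Over.pullbackId
  have h := (SGA3cLib.GrpBC.isMonHom_app α P).1
  refine ⟨?_, ?_⟩
  · simpa [α] using h.one_hom
  · simpa [α] using h.mul_hom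

/-- In characteristic zero the kernel of `π` is trivial. -/
theorem isIso_unit_of_charZero [CharZero k] (P : Over (Spec (CommRingCat.of k))) [GrpObj P]
    (hP : ∀ (H : Over (Spec (CommRingCat.of k))) [GrpObj H] (j : H ⟶ P) [IsMonHom j],
      IsClosedImmersion j.left → Smooth H.hom → ConnectedSpace ↥H.left → IsAffine H.left → IsIso η[H])
    (L : Type u) [Field L] [Algebra k L] [IsPurelyInseparable k L]
    (H : Over (Spec (CommRingCat.of L))) [GrpObj H]
    (i : H ⟶ Red.bc (Spec.map (CommRingCat.ofHom (algebraMap k L))) P) [IsMonHom i] (hi : IsClosedImmersion i.left)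
    [Smooth H.hom] [ConnectedSpace ↥H.left] [IsAffine H.left] {T : Over (Spec (CommRingCat.of L))} (x : T ⟶ H) :
    x = 1 := by
  haveI : Algebra.IsSeparable k L := inferInstance
  have hb : Function.Bijective (algebraMap k L) :=
    ⟨(algebraMap k L).injective, IsPurelyInseparable.surjective_algebraMap_of_isSeparable k L⟩
  let σ := Spec.map (CommRingCat.ofHom (algebraMap k L))
  haveI : IsIso (CommRingCat.ofHom (algebraMap k L)) := (ConcreteCategory.isIso_iff_bijective _).2 hb
  let τ := inv σ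
  let α := SGA3cLib.GrpBC.bcCongr σ τ (τ ≫ σ) rfl
  obtain ⟨e, he⟩ := isMonHom_pullbackId (IsIso.inv_hom_id σ : τ ≫ σ = 𝟙 _) P
  haveI := he
  let a : Red.bc τ (Red.bc σ P) ≅ Red.bc (τ ≫ σ) P := α.app P
  haveI : IsMonHom a.hom := (SGA3cLib.GrpBC.isMonHom_app α P).1
  let H₀ := Red.bc τ H
  let j : H₀ ⟶ P := (Over.pullback τ).map i ≫ a.hom ≫ e.hom
  haveI : IsMonHom ((Over.pullback τ).map i) := inferInstance
  haveI : IsClosedImmersion ((Over.pullback τ).map i).left :=
    MorphismProperty.of_isPullback (SGA3cLib.MultHomLocus.isPullback_map i τ) hi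
  haveI : IsClosedImmersion j.left := by
    haveI : IsIso a.hom.left := inferInstanceAs (IsIso ((Over.forget _).map a.hom))
    haveI : IsIso e.hom.left := inferInstanceAs (IsIso ((Over.forget _).map e.hom))
    show IsClosedImmersion (((Over.pullback τ).map i ≫ a.hom ≫ e.hom).left)
    rw [Over.comp_left, Over.comp_left]
    infer_instance
  haveI : IsAffine H₀.left := IsAffine.of_isIso (pullback.fst H.hom τ)
  haveI : ConnectedSpace ↥H₀.left :=
    ((inv (pullback.fst H.hom τ)).surjective).connectedSpace (inv (pullback.fst H.hom τ)).continuous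
  have h := hP H₀ j inferInstance (MorphismProperty.pullback_snd (P := @Smooth) H.hom τ inferInstance) inferInstance
    inferInstance
  have h1 : (𝟙 H₀ : H₀ ⟶ H₀) = 1 := by
    rw [Hom.one_def, ← cancel_mono (inv η[H₀]), Category.assoc, IsIso.hom_inv_id, Category.comp_id]
    exact toUnit_unique _ _
  refine AlgGrpLib.TorusToProper.eq_of_bc τ ?_
  rw [Functor.map_one (Over.pullback τ)]
  have h2 := congrArg (fun z => (Over.pullback τ).map x ≫ z) h1
  rwa [Category.comp_id, MonObj.comp_one] at h2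

theorem main (Ω : Type u) [Field Ω] [Algebra k Ω] [IsSepClosure k Ω] (l : ℕ) [Fact l.Prime] (hl : (l : k) ≠ 0)
    (P : Over (Spec (CommRingCat.of k))) [GrpObj P] [IsCommMonObj P] [Smooth P.hom]
    (hP : ∀ (H : Over (Spec (CommRingCat.of k))) [GrpObj H] (j : H ⟶ P) [IsMonHom j],
      IsClosedImmersion j.left → Smooth H.hom → ConnectedSpace ↥H.left → IsAffine H.left → IsIso η[H])
    (L : Type u) [Field L] [Algebra k L] [FiniteDimensional k L] [IsPurelyInseparable k L]
    (H A : Over (Spec (CommRingCat.of L))) [GrpObj H] [GrpObj A]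
    (i : H ⟶ Red.bc (Spec.map (CommRingCat.ofHom (algebraMap k L))) P) [IsMonHom i]
    (π : Red.bc (Spec.map (CommRingCat.ofHom (algebraMap k L))) P ⟶ A) [IsMonHom π]
    (hi : IsClosedImmersion i.left) (hker : AlgGrp.IsKernel i π) [Surjective π.left]
    [Smooth H.hom] [ConnectedSpace ↥H.left] [IsAffine H.left]
    (hH : Red.HasNoSubtorus (AlgebraicClosure L) (Red.bc (Spec.map (CommRingCat.ofHom (algebraMap L (AlgebraicClosure L)))) H))
    [IsProper A.hom] [Smooth A.hom] [GeometricallyIntegral A.hom]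
    (g : ℕ) (hg : topologicalKrullDim ↥A.left = g) :
    Module.Free ℤ_[l] (AbDual.TateMod P l (SGA7.pt Ω)) ∧ Module.Finite ℤ_[l] (AbDual.TateMod P l (SGA7.pt Ω)) ∧
      Module.finrank ℤ_[l] (AbDual.TateMod P l (SGA7.pt Ω)) = 2 * g := by
  let Ω' := AlgebraicClosure L
  haveI : IsSepClosed Ω := IsSepClosure.sep_closed k
  haveI : Algebra.IsSeparable k Ω := IsSepClosure.separable
  let em : Ω →ₐ[k] Ω' := IsAlgClosed.lift
  let σ := Spec.map (CommRingCat.ofHom (algebraMap k L))
  let gL := Spec.map (CommRingCat.ofHom (algebraMap L Ω'))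
  let P' := Red.bc σ P
  haveI : IsCommMonObj A := isCommMonObj_of_isProper_of_geometricallyIntegral A
  haveI : IsCommMonObj P' := inferInstance
  haveI : Smooth P'.hom := MorphismProperty.pullback_snd (P := @Smooth) P.hom σ inferInstance
  haveI : LocallyOfFiniteType π.left := by
    haveI : LocallyOfFiniteType (π.left ≫ A.hom) := by rw [Over.w π]; infer_instance
    exact locallyOfFiniteType_of_comp π.left A.hom
  have hcomp : Spec.map (CommRingCat.ofHom (algebraMap k Ω')) = gL ≫ σ := by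
    rw [← Spec.map_comp, ← CommRingCat.ofHom_comp, ← IsScalarTower.algebraMap_eq k L Ω']
  let jX : (Over.map σ).obj (SGA7.pt (K := L) Ω') ≅ SGA7.pt (K := k) Ω' := Over.isoMk (Iso.refl _) (by
    show 𝟙 _ ≫ Spec.map (CommRingCat.ofHom (algebraMap k Ω')) = gL ≫ σ
    rw [Category.id_comp, hcomp])
  let φ₂ : (SGA7.pt (K := k) Ω' ⟶ P) →* (SGA7.pt (K := L) Ω' ⟶ P') :=
    (AlgGrpLib.IsogenyBC.ptEquiv σ P (SGA7.pt (K := L) Ω')).toMonoidHom.comp
      (MonoidHom.mk' (fun x => jX.hom ≫ x) fun a b => MonObj.comp_mul _ a b)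
  have hφ₂ : Function.Bijective φ₂ := by
    refine (AlgGrpLib.IsogenyBC.ptEquiv σ P (SGA7.pt (K := L) Ω')).bijective.comp ⟨fun a b h => ?_, fun b => ?_⟩
    · exact (cancel_epi jX.hom).1 h
    · exact ⟨jX.inv ≫ b, jX.hom_inv_id_assoc b⟩
  let φ₃ : (SGA7.pt (K := L) Ω' ⟶ P') →* (SGA7.pt (K := L) Ω' ⟶ A) :=
    MonoidHom.mk' (fun x => x ≫ π) fun a b => MonObj.mul_comp a b π
  let φ₄ := AbCubeLib.bcPts gL A
  -- the kernel points are killed by an exponent prime to `l`
  obtain ⟨M, hM, hkill⟩ : ∃ M : ℕ, Nat.Coprime l M ∧ ∀ x : SGA7.pt (K := L) Ω' ⟶ H, x ^ M = 1 := by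
    obtain ⟨p, hp⟩ := CharP.exists k
    rcases CharP.char_is_prime_or_zero k p with hpp | rfl
    · haveI := hp
      haveI := Fact.mk hpp
      haveI : CharP Ω' p := charP_of_injective_algebraMap (algebraMap k Ω').injective p
      let H' := Red.bc gL H
      haveI : Smooth H'.hom := MorphismProperty.pullback_snd (P := @Smooth) H.hom gL inferInstance
      haveI : IsAffine H'.left := inferInstanceAs (IsAffine (pullback H.hom gL))
      haveI : GeometricallyConnected H.hom := AlgGrpLib.AbelianSubvariety.geometricallyConnected_of_connected H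
      haveI : ConnectedSpace ↥H'.left := GeometricallyConnected.geometrically_connectedSpace (f := H.hom) gL
        (pullback.fst _ _) (pullback.snd _ _) (IsPullback.of_hasPullback _ _)
      haveI : IsCommMonObj H := by
        haveI : Mono i := Over.mono_of_mono_left i
        exact ⟨by rw [← cancel_mono i, Category.assoc, IsMonHom.mul_hom, ← BraidedCategory.braiding_naturality_assoc,
          IsCommMonObj.mul_comm]⟩
      haveI : IsCommMonObj H' := inferInstance
      obtain ⟨e, he⟩ := UnipStruct.killed_of_hasNoSubtorus (p := p) hH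
      refine ⟨p ^ e, ((Nat.coprime_primes (Fact.out : l.Prime) hpp).2 ?_).pow_right e, fun x => ?_⟩
      · rintro rfl
        exact hl (CharP.cast_eq_zero k l)
      · refine (AbCubeLib.bcPts_bijective gL H).1 ?_
        rw [map_pow, map_one]
        exact he _ _
    · haveI : CharZero k := CharP.charP_to_charZero k
      exact ⟨1, Nat.coprime_one_right l, fun x => by
        rw [pow_one]; exact isIso_unit_of_charZero P hP L H i hi x⟩
  have hφ₃ : ∀ n, Set.BijOn φ₃ {x | x ^ (l ^ n) = 1} {y | y ^ (l ^ n) = 1} := fun n => by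
    have hc : Nat.Coprime (l ^ n) M := hM.pow_left n
    have hgcd := Nat.gcd_eq_gcd_ab (l ^ n) M
    rw [hc] at hgcd
    haveI : IsMonHom i := inferInstance
    let ri : (SGA7.pt (K := L) Ω' ⟶ H) →* (SGA7.pt (K := L) Ω' ⟶ P') :=
      MonoidHom.mk' (fun x => x ≫ i) fun a b => MonObj.mul_comp a b i
    refine ⟨fun x hx => ?_, fun x hx y hy h => ?_, fun y hy => ?_⟩
    · show _ ^ _ = 1
      rw [← map_pow, hx, map_one]
    · have h1 : (x * y⁻¹) ≫ π = 1 := by
        show φ₃ (x * y⁻¹) = 1
        rw [map_mul, map_inv, h, mul_inv_cancel]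
      obtain ⟨d, hd⟩ := AlgGrpLib.exists_lift_kernel hker h1
      have h2 : (x * y⁻¹) ^ M = 1 := by
        rw [← hd]; show ri d ^ M = 1
        rw [← map_pow, hkill, map_one]
      have h3 : (x * y⁻¹) ^ (l ^ n) = 1 := by rw [mul_pow, inv_pow, hx, hy, inv_one, _root_.mul_one]
      have h4 : (x * y⁻¹) ^ (((1 : ℕ) : ℤ)) = 1 := by
        rw [hgcd, zpow_add, zpow_mul, zpow_mul, zpow_natCast, zpow_natCast, h3, h2, one_zpow, one_zpow, _root_.one_mul]
      rw [zpow_natCast, pow_one] at h4
      exact mul_inv_eq_one.1 h4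
    · obtain ⟨x₀, hx₀⟩ := AbCubeLib.exists_pts_lift_of_surjective π y
      have h1 : (x₀ ^ (l ^ n)) ≫ π = 1 := by
        show φ₃ (x₀ ^ (l ^ n)) = 1
        rw [map_pow, show φ₃ x₀ = y from hx₀, hy]
      obtain ⟨d, hd⟩ := AlgGrpLib.exists_lift_kernel hker h1
      let w := d ^ (Nat.gcdA (l ^ n) M)
      have hw : w ^ (l ^ n) = d := by
        have h5 : d ^ (((1 : ℕ) : ℤ)) = (d ^ (Nat.gcdA (l ^ n) M)) ^ (l ^ n) := by
          rw [hgcd, zpow_add, zpow_mul d (M : ℤ), zpow_natCast d M, hkill, one_zpow, _root_.mul_one, ← zpow_natCast _ (l ^ n), ← zpow_mul,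
            mul_comm]
        rw [zpow_natCast, pow_one] at h5
        exact h5.symm
      refine ⟨x₀ * (ri w)⁻¹, ?_, ?_⟩
      · show _ ^ _ = 1
        rw [mul_pow, inv_pow, ← map_pow, hw, ← hd]
        exact mul_inv_cancel _
      · have hiπ : (ri w) ≫ π = 1 := by
          show (w ≫ i) ≫ π = 1
          rw [Category.assoc, AlgGrpLib.kernel_comp hker, MonObj.comp_one]
        show (x₀ * (ri w)⁻¹) ≫ π = y
        rw [MonObj.mul_comp, GrpObj.inv_comp, hiπ, inv_one, _root_.mul_one, hx₀]
  let φ := φ₄.comp (φ₃.comp (φ₂.comp (ptsMap em P)))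
  have hbij : ∀ {X Y : Type u} [Monoid X] [Monoid Y] (f : X →* Y), Function.Bijective f → ∀ N : ℕ,
      Set.BijOn f {x | x ^ N = 1} {y | y ^ N = 1} := fun f hf N =>
    ⟨fun x hx => by show _ ^ N = 1; rw [← map_pow, hx, map_one], hf.1.injOn, fun y hy => by
      obtain ⟨x, rfl⟩ := hf.2 y
      exact ⟨x, hf.1 (by rw [map_pow, map_one]; exact hy), rfl⟩⟩
  have hφ : ∀ n, Set.BijOn φ {x | x ^ (l ^ n) = 1} {y | y ^ (l ^ n) = 1} := fun n => by
    have hln : ((l ^ n : ℕ) : k) ≠ 0 := by push_cast; exact pow_ne_zero n hl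
    exact (hbij φ₄ (AbCubeLib.bcPts_bijective gL A) _).comp
      ((hφ₃ n).comp ((hbij φ₂ hφ₂ _).comp (bijOn_ptsMap em P hln)))
  let A' := Red.bc gL A
  haveI : IsCommMonObj A' := inferInstance
  haveI : IsProper A'.hom := MorphismProperty.pullback_snd (P := @IsProper) A.hom gL inferInstance
  haveI : GeometricallyIntegral A'.hom :=
    MorphismProperty.pullback_snd (P := @GeometricallyIntegral) A.hom gL inferInstance
  have hlΩ : (l : Ω') ≠ 0 := by
    intro h
    exact hl ((algebraMap k Ω').injective (by rw [map_natCast, map_zero]; exact h))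
  have hgA : topologicalKrullDim ↥A'.left = g := (DimLib.topologicalKrullDim_bc A.hom Ω').trans hg
  obtain ⟨h1, h2, h3⟩ := Groth.Agent.S12397.result Ω' l hlΩ A' g hgA
  obtain ⟨E⟩ := nonempty_tateEquiv (A := P) (B := A') (T := SGA7.pt (K := k) Ω)
    (T' := Over.mk (𝟙 (Spec (CommRingCat.of Ω')))) φ hφ
  haveI := h1
  haveI := h2
  exact ⟨Module.Free.of_equiv E.symm, Module.Finite.equiv E.symm, E.finrank_eq.trans h3⟩

end Groth.Agent.PseudoAb27
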