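import Groth.Agent.Et18.StrictlyHenselBase
import Groth.Agent.Et18.H0Lift.SepFieldBC
import Groth.Agent.AbCubeLib.PointsBC
import Groth.Agent.SGA3Power26.PowerCentral
import Groth.Agent.UnipStruct.Group
import Groth.Agent.UnipStruct.Unip
import Groth.Agent.AlgGrpLib.IsogenyBC
import Groth.Agent.AbCubeLib.PTorsion
import Groth.Prelude.Def_SGA7a

/-!
Torsion points over separable and algebraic closures; transfer of Tate modules.
-/

set_option autoImplicit false
set_option backward.isDefEq.respectTransparency.types false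
set_option linter.style.haveILetI false

universe u

open CategoryTheory CategoryTheory.Limits MonoidalCategory CartesianMonoidalCategory MonObj AlgebraicGeometry

noncomputable section

namespace Groth.Agent.PseudoAb27

/-- A homomorphism on points bijective on `l`-power torsion identifies Tate modules. -/
theorem nonempty_tateEquiv {S S' : Scheme.{u}} {A : Over S} [GrpObj A] [IsCommMonObj A] {B : Over S'} [GrpObj B]
    [IsCommMonObj B] {T : Over S} {T' : Over S'} {l : ℕ} [Fact l.Prime] (φ : (T ⟶ A) →* (T' ⟶ B))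
    (hφ : ∀ n : ℕ, Set.BijOn φ {x | x ^ (l ^ n) = 1} {y | y ^ (l ^ n) = 1}) :
    Nonempty (AbDual.TateMod A l T ≃ₗ[ℤ_[l]] AbDual.TateMod B l T') := by
  let F : AbDual.TateMod A l T →ₗ[ℤ_[l]] AbDual.TateMod B l T' :=
    { toFun := fun x => ⟨fun n => Additive.ofMul (φ ((x : ℕ → Additive (T ⟶ A)) n).toMul), by
        refine ⟨fun n => ?_, fun n => ?_⟩
        · show (l ^ n) • Additive.ofMul _ = 0
          rw [← ofMul_pow, ← map_pow, ← toMul_nsmul, x.torsion n, toMul_zero, map_one]
          rfl
        · show l • Additive.ofMul _ = _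
          rw [← ofMul_pow, ← map_pow, ← toMul_nsmul, x.compat n]⟩
      map_add' := fun x y => AbDual.TateMod.ext fun n => by
        show Additive.ofMul (φ ((_ : Additive (T ⟶ A)) + _).toMul) = _
        rw [toMul_add, map_mul]
        rfl
      map_smul' := fun a x => AbDual.TateMod.ext fun n => by
        show Additive.ofMul (φ ((a.appr n) • (x : ℕ → Additive (T ⟶ A)) n).toMul) = _
        rw [toMul_nsmul, map_pow]
        rfl }
  refine ⟨LinearEquiv.ofBijective F ⟨fun x y h => AbDual.TateMod.ext fun n => ?_, fun y => ?_⟩⟩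
  · have h1 := congrArg (fun z : AbDual.TateMod B l T' => ((z : ℕ → Additive (T' ⟶ B)) n).toMul) h
    exact Additive.toMul.injective ((hφ n).injOn (by
      show _ ^ _ = 1
      rw [← toMul_nsmul, x.torsion n, toMul_zero]) (by
      show _ ^ _ = 1
      rw [← toMul_nsmul, y.torsion n, toMul_zero]) h1)
  · have hy : ∀ n, ((y : ℕ → Additive (T' ⟶ B)) n).toMul ∈ {b : T' ⟶ B | b ^ (l ^ n) = 1} := fun n => by
      show _ ^ _ = 1
      rw [← toMul_nsmul, y.torsion n, toMul_zero]
    choose x hx hxy using fun n => (hφ n).surjOn (hy n)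
    refine ⟨⟨fun n => Additive.ofMul (x n), fun n => ?_, fun n => ?_⟩, AbDual.TateMod.ext fun n => ?_⟩
    · show (l ^ n) • Additive.ofMul _ = 0
      rw [← ofMul_pow, hx n]; rfl
    · show l • Additive.ofMul _ = _
      rw [← ofMul_pow]
      refine congrArg Additive.ofMul ((hφ n).injOn ?_ (hx n) ?_)
      · show _ ^ _ = 1
        rw [← pow_mul, ← pow_succ']; exact hx (n + 1)
      · rw [map_pow, hxy, hxy, ← toMul_nsmul, y.compat n]
    · show Additive.ofMul (φ (x n)) = _
      rw [hxy]; rfl

section SepPts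

variable {k : Type u} [Field k] {Ω Ω' : Type u} [Field Ω] [Field Ω'] [Algebra k Ω] [Algebra k Ω'] [IsSepClosed Ω]
  [IsSepClosed Ω'] (em : Ω →ₐ[k] Ω')

/-- The morphism of geometric points. -/
def ptMap : SGA7.pt (K := k) Ω' ⟶ SGA7.pt (K := k) Ω :=
  Over.homMk (Spec.map (CommRingCat.ofHom em.toRingHom)) (by
    show Spec.map _ ≫ Spec.map _ = Spec.map _
    rw [← Spec.map_comp, ← CommRingCat.ofHom_comp]
    exact congrArg (fun r => Spec.map (CommRingCat.ofHom r)) em.comp_algebraMap)

/-- Restriction of points. -/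
def ptsMap (G : Over (Spec (CommRingCat.of k))) [GrpObj G] :
    (SGA7.pt (K := k) Ω ⟶ G) →* (SGA7.pt (K := k) Ω' ⟶ G) :=
  MonoidHom.mk' (fun x => ptMap em ≫ x) fun a b => MonObj.comp_mul _ a b

theorem epi_ptMap : Epi (ptMap em) := by
  have h : Flat (Spec.map (CommRingCat.ofHom em.toRingHom)) ∧ Surjective (Spec.map (CommRingCat.ofHom em.toRingHom)) := by
    rw [flat_and_surjective_SpecMap_iff]
    letI := em.toRingHom.toAlgebra
    exact (inferInstanceAs (Module.FaithfullyFlat Ω Ω'))
  haveI : Flat (ptMap em).left := h.1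
  haveI : Surjective (ptMap em).left := h.2
  haveI : QuasiCompact (ptMap em).left := inferInstanceAs (QuasiCompact (Spec.map _))
  haveI : Epi (ptMap em).left := Flat.epi_of_flat_of_surjective _
  exact Over.epi_of_epi_left _

/-- Etale schemes have the same points over separably closed fields. -/
theorem exists_pt_of_etale (K : Over (Spec (CommRingCat.of k))) [Etale K.hom] (z : SGA7.pt (K := k) Ω' ⟶ K) :
    ∃ s : SGA7.pt (K := k) Ω ⟶ K, ptMap em ≫ s = z := by
  haveI : IsSepClosed (IsLocalRing.ResidueField Ω) := Et18.H0Lift.isSepClosed_residueField Ω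
  let e : Ω ≃+* IsLocalRing.ResidueField Ω := RingEquiv.ofBijective (IsLocalRing.residue Ω)
    ⟨(IsLocalRing.residue Ω).injective, Ideal.Quotient.mk_surjective⟩
  let ρ : IsLocalRing.ResidueField Ω →+* Ω' := em.toRingHom.comp e.symm.toRingHom
  have hρ : ρ.comp (IsLocalRing.residue Ω) = em.toRingHom := RingHom.ext fun a => congrArg em (e.symm_apply_apply a)
  let g : Spec (CommRingCat.of Ω) ⟶ Spec (CommRingCat.of k) := Spec.map (CommRingCat.ofHom (algebraMap k Ω))
  let V : (Spec (CommRingCat.of Ω)).Etale := Scheme.Etale.mk (pullback.snd K.hom g)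
  have hb : z.left ≫ K.hom = Spec.map (CommRingCat.ofHom (ρ.comp (IsLocalRing.residue Ω))) ≫ g := by
    rw [Over.w z, hρ]
    exact (Over.w (ptMap em)).symm
  obtain ⟨σ, hσ⟩ := Et18.exists_section_of_residue Ω ρ V
    (Over.homMk (pullback.lift z.left (Spec.map (CommRingCat.ofHom (ρ.comp (IsLocalRing.residue Ω)))) hb)
      (pullback.lift_snd _ _ _))
  let σl : Spec (CommRingCat.of Ω) ⟶ pullback K.hom g := σ.left
  have hσs : σl ≫ pullback.snd K.hom g = 𝟙 _ := Over.w σ.hom
  refine ⟨Over.homMk (σl ≫ pullback.fst K.hom g) ?_, Over.OverMorphism.ext ?_⟩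
  · rw [Category.assoc, pullback.condition, reassoc_of% hσs]
    rfl
  · show Spec.map (CommRingCat.ofHom em.toRingHom) ≫ σl ≫ pullback.fst K.hom g = z.left
    rw [← hρ, ← Category.assoc]
    exact (congrArg (· ≫ pullback.fst K.hom g) hσ).trans (pullback.lift_fst _ _ _)

theorem bijOn_ptsMap (G : Over (Spec (CommRingCat.of k))) [GrpObj G] [IsCommMonObj G] [Smooth G.hom] {N : ℕ}
    (hN : (N : k) ≠ 0) :
    Set.BijOn (ptsMap em G) {x | x ^ N = 1} {y | y ^ N = 1} := by
  haveI := epi_ptMap em
  refine ⟨fun x hx => ?_, fun x _ y _ h => (cancel_epi (ptMap em)).1 h, fun y hy => ?_⟩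
  · show _ ^ N = 1
    rw [← map_pow, hx, map_one]
  · haveI : IsLocallyNoetherian G.left := LocallyOfFiniteType.isLocallyNoetherian G.hom
    let q : G ⟶ G := (𝟙 G) ^ N
    haveI : IsMonHom q := SGA3cLib.BCPoints.isMonHom_of_mul _ fun T a b => by
      simp only [q, MonObj.comp_pow, Category.comp_id, mul_pow]
    haveI : Etale q.left := SGA3Power26.etale_of_isCommMonObj G hN
    have hk := UnipStruct.isKernel_kerι q
    haveI : Etale (toUnit (UnipStruct.kerObj q)).left :=
      MorphismProperty.of_isPullback (P := @Etale) (hk.map (Over.forget _)) ‹_›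
    haveI : Etale (UnipStruct.kerObj q).hom := by
      rw [← Over.w (toUnit (UnipStruct.kerObj q))]
      exact MorphismProperty.comp_mem @Etale _ _ ‹_› (inferInstanceAs (Etale (𝟙 _)))
    have hy' : y ≫ q = 1 := by rw [MonObj.comp_pow, Category.comp_id]; exact hy
    obtain ⟨z, hz⟩ := AlgGrpLib.exists_lift_kernel hk (g := y) hy'
    obtain ⟨s, hs⟩ := exists_pt_of_etale em (UnipStruct.kerObj q) z
    refine ⟨s ≫ UnipStruct.kerι q, ?_, ?_⟩
    · show _ ^ N = 1
      have := UnipStruct.kerι_comp q s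
      rwa [MonObj.comp_pow, Category.comp_id] at this
    · show ptMap em ≫ s ≫ UnipStruct.kerι q = y
      rw [← Category.assoc, hs, hz]

end SepPts

end Groth.Agent.PseudoAb27
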